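import Cfsg.Agent.H73.TT.Main
import Mathlib.LinearAlgebra.Matrix.GeneralLinearGroup.Card

/-!
Groups of type `M(24)`: the image of the class two levels down is one class, and uniqueness.
-/

set_option autoImplicit false

namespace H73.TT

open Cfsg H99

universe u

variable {G : Type u} [Group G] [Finite G]

theorem two_pow_not_dvd_gl : ¬ (2 ^ 15 ∣ Nat.card (GL (Fin 6) (ZMod 3))) := by
  rw [Matrix.card_GL_field]
  simp only [Fin.prod_univ_six, ZMod.card]
  decide

/-- In a group of type `M(22)` a generating invariant set is one class. -/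
theorem class_of_m22 {D : Set G} (h22 : IsOfTypeM22 G D) (hT : IsThreeTranspositionSet (D \ {1}))
    (hconj : ∀ x : G, ∀ q ∈ D \ {1}, x * q * x⁻¹ ∈ D \ {1})
    (hgen : Subgroup.closure (D \ {1}) = ⊤) : IsThreeTranspositionClass (D \ {1}) := by
  obtain ⟨hZ, d, hd, c, hc, hn, ⟨F, iF, iF', hcard, ⟨e⟩⟩, c₃, -, R, -, -, ⟨eR⟩⟩ := h22
  have hF : Fintype.card F = 2 ^ 2 := by rw [hcard]; norm_num
  set H := Subgroup.closure {y : G | y ∈ D ∧ y ≠ d ∧ Commute d y} with hH
  set L := Subgroup.closure ({y : G | y ∈ D ∧ y ≠ d ∧ Commute d y} ∩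
    {y : G | y ∈ D ∧ y ≠ c ∧ Commute c y}) with hL
  have hd' := mem_diff_of_not_commute hd hn
  refine ⟨hT, ⟨d, hd', Set.Subset.antisymm (fun y hy => ?_) fun y hy => ?_⟩, hgen⟩
  swap
  · obtain ⟨x, rfl⟩ := isConj_iff.1 (show IsConj d y from hy)
    exact hconj x d hd'
  by_contra hyX
  set Y : Set G := {y | y ∈ D \ {1} ∧ ¬ IsConj d y} with hY
  have hyY : y ∈ Y := ⟨hy, hyX⟩
  have hXY : ∀ x ∈ D \ {1}, IsConj d x → ∀ w ∈ Y, Commute x w := by
    intro x hx hdx w hw
    by_contra hne
    refine hw.2 (hdx.trans (isConj_iff.2 ⟨x * w, ?_⟩))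
    have hb := tt_braid hT hx hw.1 hne
    rw [mul_inv_rev, tt_inv hT hx, tt_inv hT hw.1,
      show x * w * x * (w * x) = (x * w * x) * w * x by group, hb,
      show w * x * w * w * x = w * x * (w * w) * x by group, tt_mul_self hT hw.1, mul_one,
      mul_assoc, tt_mul_self hT hx, mul_one]
  have hdc : IsConj d c := by
    have hc' := mem_diff_of_not_commute hc (fun h => hn h.symm)
    by_contra h
    exact hn (hXY d hd' (IsConj.refl d) c ⟨hc', h⟩)
  have hYd : ∀ w ∈ Y, w ∈ {y : G | y ∈ D ∧ y ≠ d ∧ Commute d y} ∩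
      {y : G | y ∈ D ∧ y ≠ c ∧ Commute c y} := fun w hw =>
    ⟨⟨hw.1.1, fun h => hw.2 (h ▸ IsConj.refl d), hXY d hd' (IsConj.refl d) w hw⟩,
      ⟨hw.1.1, fun h => hw.2 (h ▸ hdc),
        hXY c (mem_diff_of_not_commute hc (fun h => hn h.symm)) hdc w hw⟩⟩
  set N := Subgroup.closure Y with hN
  have hNH : N ≤ H := (Subgroup.closure_le _).2 fun w hw => Subgroup.subset_closure (hYd w hw).1
  have hNL : N ≤ L := (Subgroup.closure_le _).2 fun w hw => Subgroup.subset_closure (hYd w hw)
  haveI hNn : N.Normal := by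
    refine ⟨fun g hg x => ?_⟩
    have hle : N ≤ N.comap (MulAut.conj x).toMonoidHom := by
      rw [hN, Subgroup.closure_le]
      intro w hw
      exact Subgroup.subset_closure ⟨hconj x w hw.1,
        fun h => hw.2 (h.trans (isConj_iff.2 ⟨x⁻¹, by simp [mul_assoc]⟩))⟩
    exact hle hg
  -- central elements of `N` are central in `G`
  have hNc : ∀ g, (∀ w ∈ Y, Commute g w) → g ∈ N → g = 1 := by
    intro g hg hgN
    have : Subgroup.centralizer ({g} : Set G) = ⊤ := by
      rw [eq_top_iff, ← hgen, Subgroup.closure_le]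
      intro x hx
      rw [SetLike.mem_coe, Subgroup.mem_centralizer_singleton_iff]
      by_cases hdx : IsConj d x
      · have hle : N ≤ Subgroup.centralizer ({x} : Set G) := by
          rw [hN, Subgroup.closure_le]
          exact fun w hw => Subgroup.mem_centralizer_singleton_iff.2 (hXY x hx hdx w hw).eq.symm
        exact (Subgroup.mem_centralizer_singleton_iff.1 (hle hgN)).symm
      · exact (hg x ⟨hx, hdx⟩).eq.symm
    have hgz : g ∈ Subgroup.center G := Subgroup.mem_center_iff.2 fun x => by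
      have hx : x ∈ Subgroup.centralizer ({g} : Set G) := this ▸ Subgroup.mem_top x
      exact Subgroup.mem_centralizer_singleton_iff.1 hx
    rw [hZ] at hgz
    exact Subgroup.mem_bot.1 hgz
  haveI := H50.PSU_isSimple hF (n := 6) (by norm_num) (by norm_num)
  let ψ : ↥H →* PSU 6 F 2 := e.toMonoidHom.comp (QuotientGroup.mk' (Subgroup.center ↥H))
  have hψs : Function.Surjective ψ := e.surjective.comp (QuotientGroup.mk'_surjective _)
  have hψ : ∀ x, ψ x = 1 → x ∈ Subgroup.center ↥H := fun x hx =>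
    (QuotientGroup.eq_one_iff x).1 (e.injective (by rw [map_one]; exact hx))
  set ι := Subgroup.inclusion hNH with hι
  haveI : (N.subgroupOf H).Normal := Subgroup.normal_subgroupOf
  haveI : ((N.subgroupOf H).map ψ).Normal := Subgroup.Normal.map inferInstance ψ hψs
  have hinj : Function.Injective (ψ.comp ι) := by
    refine (injective_iff_map_eq_one _).2 fun g hg => Subtype.ext (hNc g (fun w hw => ?_) g.2)
    have := Subgroup.mem_center_iff.1 (hψ _ hg) ⟨w, hNH (Subgroup.subset_closure hw)⟩
    exact (congrArg Subtype.val this).symm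
  have hsurj : Function.Surjective (ψ.comp ι) := by
    rcases IsSimpleGroup.eq_bot_or_eq_top_of_normal ((N.subgroupOf H).map ψ) inferInstance with
      h0 | h0
    · exfalso
      have h1 : ψ ⟨y, hNH (Subgroup.subset_closure hyY)⟩ ∈ (N.subgroupOf H).map ψ :=
        Subgroup.mem_map_of_mem ψ (Subgroup.subset_closure hyY : y ∈ N)
      rw [h0] at h1
      have := hinj (a₁ := ⟨y, Subgroup.subset_closure hyY⟩) (a₂ := 1)
        (by rw [map_one]; exact Subgroup.mem_bot.1 h1)
      exact hy.2 (congrArg Subtype.val this)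
    · intro q
      obtain ⟨x, hx, rfl⟩ := h0.ge (Subgroup.mem_top q)
      exact ⟨⟨x, hx⟩, congrArg ψ (Subtype.ext rfl)⟩
  have hcardN : Nat.card ↥N = Nat.card (PSU 6 F 2) :=
    Nat.card_congr (Equiv.ofBijective _ ⟨hinj, hsurj⟩)
  -- the members outside `Y` are central in `H`
  have hXc : ∀ x ∈ D, x ≠ d → Commute d x → x ∉ Y → ∀ h ∈ H, Commute x h := by
    intro x hxD hxd hdx hxY h hh
    by_cases hx1 : x = 1
    · rw [hx1]; exact Commute.one_left h
    have hdxc : IsConj d x := by
      by_contra hcon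
      exact hxY ⟨⟨hxD, hx1⟩, hcon⟩
    have hxH : x ∈ H := Subgroup.subset_closure ⟨hxD, hxd, hdx⟩
    obtain ⟨g, hg⟩ := hsurj (ψ ⟨h, hh⟩)
    have hz : (ι g)⁻¹ * ⟨h, hh⟩ ∈ Subgroup.center ↥H := hψ _ (by
      rw [map_mul, map_inv, show ψ (ι g) = _ from hg, inv_mul_cancel])
    have h1 : Commute x (g : G) := by
      have hle : N ≤ Subgroup.centralizer ({x} : Set G) := by
        rw [hN, Subgroup.closure_le]
        exact fun w hw => Subgroup.mem_centralizer_singleton_iff.2
          (hXY x ⟨hxD, hx1⟩ hdxc w hw).eq.symm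
      exact (Subgroup.mem_centralizer_singleton_iff.1 (hle g.2)).symm
    have h2 : Commute x ((g : G)⁻¹ * h) :=
      congrArg Subtype.val (Subgroup.mem_center_iff.1 hz ⟨x, hxH⟩)
    have h3 := h1.mul_right h2
    rwa [mul_inv_cancel_left] at h3
  have hLH : L ≤ H := Subgroup.closure_mono Set.inter_subset_left
  let χ : ↥N →* ↥L ⧸ Subgroup.center ↥L :=
    (QuotientGroup.mk' (Subgroup.center ↥L)).comp (Subgroup.inclusion hNL)
  have hχi : Function.Injective χ := by
    refine (injective_iff_map_eq_one _).2 fun g hg => Subtype.ext (hNc g (fun w hw => ?_) g.2)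
    have := Subgroup.mem_center_iff.1 ((QuotientGroup.eq_one_iff _).1 hg)
      ⟨w, hNL (Subgroup.subset_closure hw)⟩
    exact (congrArg Subtype.val this).symm
  have hχs : Function.Surjective χ := by
    rw [← MonoidHom.range_eq_top, eq_top_iff]
    intro q _
    obtain ⟨⟨x, hx⟩, rfl⟩ := QuotientGroup.mk'_surjective _ q
    revert hx
    suffices ∀ x, x ∈ L → ∀ hx : x ∈ L,
        QuotientGroup.mk' (Subgroup.center ↥L) ⟨x, hx⟩ ∈ χ.range from fun hx _ => this x hx hx
    intro x hx
    induction hx using Subgroup.closure_induction with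
    | mem x hx =>
      intro hx'
      by_cases hxY : x ∈ Y
      · exact ⟨⟨x, Subgroup.subset_closure hxY⟩, congrArg _ (Subtype.ext rfl)⟩
      · refine ⟨1, ?_⟩
        rw [map_one, eq_comm]
        refine (QuotientGroup.eq_one_iff _).2 (Subgroup.mem_center_iff.2 fun h => Subtype.ext ?_)
        exact (hXc x hx.1.1 hx.1.2.1 hx.1.2.2 hxY h (hLH h.2)).eq.symm
    | one => intro _; exact ⟨1, by rw [map_one]; exact (map_one _).symm⟩
    | mul a b ha hb iha ihb =>
      intro _
      have := mul_mem (iha ha) (ihb hb)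
      rw [← map_mul] at this
      exact this
    | inv a ha iha =>
      intro _
      have := inv_mem (iha ha)
      rw [← map_inv] at this
      exact this
  have h1 : Nat.card ↥N ∣ Nat.card (GL (Fin 6) (ZMod 3)) := by
    rw [Nat.card_congr (Equiv.ofBijective χ ⟨hχi, hχs⟩)]
    rw [Nat.card_congr eR.toEquiv]
    exact (Subgroup.card_quotient_dvd_card _).trans
      ((Subgroup.card_subgroup_dvd_card _).trans (Subgroup.card_subgroup_dvd_card _))
  have h2 : 2 ^ 15 ∣ Nat.card (PSU 6 F 2) := by
    have h := H50.card_PSU_mul hF (n := 6) (by norm_num)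
    rw [H50.card_GU hF] at h
    norm_num [Finset.prod_range_succ, Nat.even_iff] at h
    omega
  exact two_pow_not_dvd_gl (h2.trans (hcardN ▸ h1))

/-- Only one class generates a primitive group of type `M(24)`. -/
theorem unique_m24 {D : Set G} (hD : IsThreeTranspositionGroup D) (hp : IsPrimitiveUnderConj D)
    (h24 : IsOfTypeM24 G D) {D' : Set G} (hD' : IsThreeTranspositionClass D') : D' = D := by
  have hd1 := diff_one_eq hD.1
  have hcls : IsThreeTranspositionClass (D \ {1}) := by rw [hd1]; exact class_of_primitive hD hp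
  have hp' : IsPrimitiveUnderConj (D \ {1}) := by rw [hd1]; exact hp
  obtain ⟨Q, iQ, iQ', S, h23, hS, d, hd, π, hL⟩ := exists_sys_m23 hcls h24
  have hne : (S \ {1}).Nonempty := by
    obtain ⟨-, d', hd'', c, -, hn, -⟩ := h23
    exact ⟨d', mem_diff_of_not_commute hd'' hn⟩
  have hScls := inner_class hcls hp' (width_of_loc hd hL hne) hd hL hne
  obtain ⟨Q₂, iQ₂, iQ₂', T, h22, hT, hTT, hTc, hTg, -⟩ := exists_sys_m22 hScls h23
  have hTcls := class_of_m22 h22 hTT hTc hTg
  have hC2 := core_m22 hTcls h22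
  have hC3 := core hScls hT hC2 h23.1
  have hdia4 := dia_of_primitive hcls hp' (hasPath hcls hS hC3)
  have hdia3 := dia_inner hcls hp' hS hC3
  have hdia2 := dia_inner hScls (primitive_of_dia hC3 hdia3) hT hC2
  have hG3 := good hScls h23.1 hT (good_m22 hTcls h22 hdia2) hdia3
  exact ((good hcls h24.1 hS hG3 hdia4).unique hD').trans hd1

end H73.TT
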